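/-
An unramified morphism of smooth schemes of the same relative dimension is étale.
-/
import Groth.Agent.SmoothSpecialPt.Basic
import Groth.Agent.Unram.Pointwise
import Groth.Agent.FibreDimChart.Basic
import Groth.Agent.AlgSpc.LfpCancel

set_option autoImplicit false
set_option linter.style.haveILetI false
universe u
open TensorProduct AlgebraicGeometry CategoryTheory

namespace Groth.Agent.SmoothMono

theorem isSmoothAt_of_unramified {R B A : Type u} [CommRing R] [CommRing B] [CommRing A] [Algebra R B] [Algebra R A]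
    [Algebra B A] [IsScalarTower R B A] [Algebra.FinitePresentation R B] [Algebra.FinitePresentation R A]
    (q : Ideal A) [q.IsPrime] (hB : Algebra.IsSmoothAt R (q.under B)) (hA : Algebra.IsSmoothAt R q)
    (hu : Algebra.IsUnramifiedAt B q)
    (hrk : Module.finrank (q.under B).ResidueField ((q.under B).ResidueField ⊗[B] Ω[B⁄R]) =
      Module.finrank q.ResidueField (q.ResidueField ⊗[A] Ω[A⁄R])) :
    Algebra.IsSmoothAt B q := by
  let p := q.under B
  let T := Localization.AtPrime q
  let P := Localization.AtPrime p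
  letI : Algebra P T := Localization.AtPrime.algebraOfLiesOver p q
  haveI : IsScalarTower R P T := IsScalarTower.to₁₃₄ R B P T
  haveI : Algebra.FormallySmooth R P := hB
  haveI : Algebra.FormallySmooth R T := hA
  haveI : Algebra.FormallyUnramified B T := hu
  haveI : Algebra.FormallyUnramified P T := Algebra.FormallyUnramified.of_restrictScalars B P T
  haveI : Algebra.EssFiniteType B P := Algebra.EssFiniteType.of_isLocalization _ p.primeCompl
  haveI : Algebra.EssFiniteType A T := Algebra.EssFiniteType.of_isLocalization _ q.primeCompl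
  haveI : Algebra.EssFiniteType R P := Algebra.EssFiniteType.comp R B P
  haveI : Algebra.EssFiniteType R T := Algebra.EssFiniteType.comp R A T
  haveI : Algebra.FormallyEtale A T := Algebra.FormallyEtale.of_isLocalization q.primeCompl
  haveI : Algebra.FormallyEtale B P := Algebra.FormallyEtale.of_isLocalization p.primeCompl
  haveI : Module.Free P Ω[P⁄R] := Module.free_of_flat_of_isLocalRing (R := P) (P := Ω[P⁄R])
  haveI : Module.Free T Ω[T⁄R] := Module.free_of_flat_of_isLocalRing (R := T) (P := Ω[T⁄R])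
  have hT : Module.finrank T Ω[T⁄R] = Module.finrank q.ResidueField (q.ResidueField ⊗[A] Ω[A⁄R]) := by
    rw [((AlgebraTensorModule.cancelBaseChange A T q.ResidueField q.ResidueField Ω[A⁄R]).symm.trans
      (AlgebraTensorModule.congr (LinearEquiv.refl _ _)
        (KaehlerDifferential.tensorKaehlerEquivOfFormallyEtale R A T))).finrank_eq, Module.finrank_baseChange]
  have hP : Module.finrank P Ω[P⁄R] = Module.finrank p.ResidueField (p.ResidueField ⊗[B] Ω[B⁄R]) := by
    rw [((AlgebraTensorModule.cancelBaseChange B P p.ResidueField p.ResidueField Ω[B⁄R]).symm.trans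
      (AlgebraTensorModule.congr (LinearEquiv.refl _ _)
        (KaehlerDifferential.tensorKaehlerEquivOfFormallyEtale R B P))).finrank_eq, Module.finrank_baseChange]
  have hsurj : Function.Surjective (KaehlerDifferential.mapBaseChange R P T) := fun x =>
    (KaehlerDifferential.exact_mapBaseChange_map R P T x).1 (Subsingleton.elim _ _)
  let b := (Module.finBasisOfFinrankEq P Ω[P⁄R] (hP.trans (hrk.trans hT.symm))).baseChange T
  let e : (T ⊗[P] Ω[P⁄R]) ≃ₗ[T] Ω[T⁄R] := b.equiv (Module.finBasis T Ω[T⁄R]) (Equiv.refl _)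
  haveI : Module.Finite T (T ⊗[P] Ω[P⁄R]) := Module.Finite.of_basis b
  have hinj : Function.Injective (KaehlerDifferential.mapBaseChange R P T) :=
    Function.Injective.of_comp (f := e.symm)
      (OrzechProperty.injective_of_surjective_endomorphism (e.symm.toLinearMap ∘ₗ KaehlerDifferential.mapBaseChange R P T)
        (e.symm.surjective.comp hsurj))
  haveI : Algebra.FormallyEtale P T := by
    refine (Algebra.formallyEtale_iff _ _).2 ⟨inferInstance, subsingleton_of_forall_eq 0 fun z => ?_⟩
    have h1 := Algebra.H1Cotangent.exact_map_δ (R := R) (S := P) (T := T)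
    have h2 := Algebra.H1Cotangent.exact_δ_mapBaseChange (R := R) (S := P) (T := T)
    obtain ⟨y, rfl⟩ := (h1 z).1 (hinj (by rw [(h2 _).2 ⟨z, rfl⟩, map_zero]))
    rw [Subsingleton.elim y 0, map_zero]
  show Algebra.FormallySmooth B T
  exact Algebra.FormallySmooth.comp B P T

variable {X Y S : Scheme.{u}}

theorem smooth_of_unramified (f : Y ⟶ S) (h : X ⟶ S) [Smooth f] [Smooth h] (g : X ⟶ Y) (w : g ≫ f = h)
    [LocallyOfFinitePresentation g] (x : X) (hu : (g.stalkMap x).hom.FormallyUnramified)
    (hd : FlatMor.fibreDimAt f (g x) = FlatMor.fibreDimAt h x) : x ∈ g.smoothLocus := by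
  subst w
  obtain ⟨_, ⟨U, hU, rfl⟩, hxU, -⟩ :=
    S.isBasis_affineOpens.exists_subset_of_mem_open (Set.mem_univ (f (g x))) isOpen_univ
  obtain ⟨_, ⟨V, hV, rfl⟩, hxV, hVU⟩ :=
    Y.isBasis_affineOpens.exists_subset_of_mem_open hxU (U.2.preimage f.continuous)
  obtain ⟨_, ⟨W, hW, rfl⟩, hxW, hWV⟩ :=
    X.isBasis_affineOpens.exists_subset_of_mem_open hxV (V.2.preimage g.continuous)
  have hWU : W ≤ (g ≫ f) ⁻¹ᵁ U := fun y hy => hVU (hWV hy)
  let R := Γ(S, U); let B := Γ(Y, V); let A := Γ(X, W)
  letI : Algebra R B := (f.appLE U V hVU).hom.toAlgebra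
  letI : Algebra B A := (g.appLE V W hWV).hom.toAlgebra
  letI : Algebra R A := ((g ≫ f).appLE U W hWU).hom.toAlgebra
  haveI : IsScalarTower R B A := IsScalarTower.of_algebraMap_eq' (by
    show ((g ≫ f).appLE U W hWU).hom = ((f.appLE U V hVU) ≫ g.appLE V W hWV).hom
    rw [Scheme.Hom.appLE_comp_appLE])
  haveI : Algebra.Smooth R B := HasRingHomProperty.appLE @Smooth f inferInstance ⟨U, hU⟩ ⟨V, hV⟩ hVU
  haveI : Algebra.Smooth R A := HasRingHomProperty.appLE @Smooth (g ≫ f) inferInstance ⟨U, hU⟩ ⟨W, hW⟩ hWU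
  let q := hW.primeIdealOf ⟨x, hxW⟩
  have hqp : q.asIdeal.under B = (hV.primeIdealOf ⟨g x, hWV hxW⟩).asIdeal :=
    congrArg PrimeSpectrum.asIdeal (IsAffineOpen.comap_primeIdealOf_appLE V hV W hW hWV hxW)
  have hq : Algebra.IsSmoothAt R q.asIdeal := by
    have : q ∈ Algebra.smoothLocus R A := by rw [Algebra.smoothLocus_eq_univ]; trivial
    exact this
  let p : PrimeSpectrum B := ⟨q.asIdeal.under B, inferInstance⟩
  have hp : Algebra.IsSmoothAt R p.asIdeal := by
    have : p ∈ Algebra.smoothLocus R B := by rw [Algebra.smoothLocus_eq_univ]; trivial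
    exact this
  -- ranks are fibre dimensions
  obtain ⟨Qp, hQp⟩ := RelDim.exists_fibre_point R B p
  obtain ⟨Qq, hQq⟩ := RelDim.exists_fibre_point R A q
  have d1 := FibreDimChart.fibreDimAt_fromSpec f U hU V hV hVU p Qp hQp
  have d2 := FibreDimChart.fibreDimAt_fromSpec (g ≫ f) U hU W hW hWU q Qq hQq
  have hpx : hV.fromSpec p = g x := by
    rw [show p = hV.primeIdealOf ⟨g x, hWV hxW⟩ from PrimeSpectrum.ext hqp]
    exact hV.fromSpec_primeIdealOf _
  rw [hpx, SmoothSpecialPt.finrank_eq_localDim _ _ Qp (SmoothSpecialPt.fibre_smoothAt p.asIdeal hp _ Qp hQp),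
    SmoothSpecialPt.finrank_fibre _ Qp.asIdeal p.asIdeal hQp] at d1
  rw [hW.fromSpec_primeIdealOf ⟨x, hxW⟩, SmoothSpecialPt.finrank_eq_localDim _ _ Qq (SmoothSpecialPt.fibre_smoothAt q.asIdeal hq _ Qq hQq),
    SmoothSpecialPt.finrank_fibre _ Qq.asIdeal q.asIdeal hQq] at d2
  have hrk : Module.finrank p.asIdeal.ResidueField (p.asIdeal.ResidueField ⊗[B] Ω[B⁄R]) =
      Module.finrank q.asIdeal.ResidueField (q.asIdeal.ResidueField ⊗[A] Ω[A⁄R]) := by
    exact_mod_cast d1.symm.trans (hd.trans d2)
  rw [Scheme.Hom.mem_smoothLocus, formallySmooth_stalkMap_iff V hV W hW hWV hxW]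
  exact isSmoothAt_of_unramified q.asIdeal hp hq
    ((Unram.formallyUnramified_stalkMap_iff V hV W hW hWV hxW).1 hu) hrk

theorem etale_of_unramified (f : Y ⟶ S) (h : X ⟶ S) [Smooth f] [Smooth h] (g : X ⟶ Y) (w : g ≫ f = h)
    [FormallyUnramified g] (hd : ∀ x : X, FlatMor.fibreDimAt f (g x) = FlatMor.fibreDimAt h x) : Etale g := by
  haveI : LocallyOfFinitePresentation (g ≫ f) := w ▸ (inferInstance : LocallyOfFinitePresentation h)
  haveI : LocallyOfFinitePresentation g := Groth.Agent.AlgSpc.lfp_of_comp g f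
  haveI : Smooth g := by
    rw [← Scheme.Hom.smoothLocus_eq_top_iff, eq_top_iff]
    exact fun x _ => smooth_of_unramified f h g w x (FormallyUnramified.stalkMap g x) (hd x)
  exact Unram.etale_of_smooth_of_formallyUnramified g

end Groth.Agent.SmoothMono
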